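import Groth.Agent.FlatLocus.Basic
import Groth.Agent.VarDim.Fibre
import Mathlib.AlgebraicGeometry.ZariskisMainTheorem
import Mathlib.AlgebraicGeometry.Morphisms.Flat

/-!
# Flat and finite loci on the base of a proper generically finite map
-/

set_option autoImplicit false
set_option linter.style.haveILetI false
set_option backward.isDefEq.respectTransparency false
set_option backward.isDefEq.respectTransparency.types false

universe u

open AlgebraicGeometry CategoryTheory

namespace Groth.Agent.H9FlatFin

theorem main {k : Type u} [Field k] {W Z : Scheme.{u}} (pW : W ⟶ Spec (CommRingCat.of k))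
    [LocallyOfFiniteType pW] [IsIntegral W] [IsIntegral Z] (g : Z ⟶ W) [IsProper g] (n : ℕ)
    (hW : topologicalKrullDim W = n) (hZ : topologicalKrullDim Z = n) :
    (IsOpen {w : W | ∀ z : Z, g z = w → (g.stalkMap z).hom.Flat} ∧
      {w : W | ∀ z : Z, g z = w → (g.stalkMap z).hom.Flat}.Nonempty) ∧
    ∃ U : W.Opens, (U : Set W) = {w : W | (g ⁻¹' {w}).Finite} ∧ (U : Set W).Nonempty ∧ IsFinite (g ∣_ U) := by
  haveI : IsLocallyNoetherian W := LocallyOfFiniteType.isLocallyNoetherian pW
  haveI : LocallyOfFinitePresentation g := inferInstance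
  refine ⟨⟨?_, ⟨genericPoint W, fun z hz => ?_⟩⟩, ?_⟩
  · have : {w : W | ∀ z : Z, g z = w → (g.stalkMap z).hom.Flat} = (g '' {z | (g.stalkMap z).hom.Flat}ᶜ)ᶜ := by
      ext w
      simp only [Set.mem_compl_iff, Set.mem_image, not_exists, not_and, Set.mem_ofPred_eq]
      exact ⟨fun h z hz e => hz (h z e), fun h z e => by_contra fun hz => h z hz e⟩
    rw [this]
    exact (g.isClosedMap _ (Groth.Agent.FlatLocus.isOpen_flat_locus g).isClosed_compl).isOpen_compl
  · haveI : IsFractionRing (W.presheaf.stalk (g z)) W.functionField := hz ▸ inferInstance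
    have hf : IsField (W.presheaf.stalk (g z)) := by
      rw [hz]
      exact Field.toIsField W.functionField
    exact RingHom.Flat.of_isField hf _
  · let N : Set Z := {z | g.QuasiFiniteAt z}ᶜ
    let U : W.Opens := ⟨(g '' N)ᶜ, (g.isClosedMap _ g.isOpen_quasiFiniteAt.isClosed_compl).isOpen_compl⟩
    have hU : (U : Set W) = {w : W | (g ⁻¹' {w}).Finite} := by
      ext w
      haveI : LocallyOfFiniteType (g.fiberToSpecResidueField w) := inferInstance
      haveI : JacobsonSpace ↥(g.fiber w) := LocallyOfFiniteType.jacobsonSpace (g.fiberToSpecResidueField w)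
      constructor
      · intro hw
        haveI : DiscreteTopology ↥(g.fiber w) := by
          rw [discreteTopology_iff_isOpen_singleton]
          intro a
          have hqa : g.QuasiFiniteAt (g.fiberι w a) := by
            by_contra h
            exact hw ⟨_, h, (g.fiberHomeo w a).2⟩
          have h := Scheme.Hom.quasiFiniteAt_iff_isOpen_singleton_asFiber.1 hqa
          have hga : g (g.fiberι w a) = w := (g.fiberHomeo w a).2
          have hinj : ∀ (w' : W) (e : g (g.fiberι w a) = w'), IsOpen ({g.asFiber (g.fiberι w a)} : Set _) →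
              ∀ b : g.fiber w', g.fiberι w' b = g.fiberι w a → IsOpen ({b} : Set ↥(g.fiber w')) := by
            rintro _ rfl h b hb
            rwa [(g.fiberι _).isEmbedding.injective (hb.trans (g.fiberι_asFiber _).symm)]
          exact hinj w hga h a rfl
        haveI : CompactSpace ↥(g.fiber w) := QuasiCompact.compactSpace_of_compactSpace (g.fiberToSpecResidueField w)
        haveI : Finite ↥(g.fiber w) := finite_of_compact_of_discrete
        rw [Set.mem_ofPred_eq, ← g.range_fiberι w]
        exact Set.finite_range _
      · rintro (hw : (g ⁻¹' {w}).Finite) ⟨z, hz, rfl⟩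
        haveI : Finite ↥(g.fiber (g z)) := by
          haveI := hw.to_subtype
          exact Finite.of_equiv _ (g.fiberHomeo (g z)).toEquiv.symm
        exact hz (Scheme.Hom.quasiFiniteAt_iff_isOpen_singleton_asFiber.2 (isOpen_discrete _))
    refine ⟨U, hU, ⟨genericPoint W, ?_⟩, ?_⟩
    · rw [hU]
      refine (Set.Subsingleton.anti (Set.subsingleton_singleton (a := genericPoint Z)) fun z hz => ?_).finite
      let pZ := g ≫ pW
      have hgz : g z = genericPoint W := hz
      have h1 : VarDim.deg pW (genericPoint W) = n := by
        have := VarDim.topologicalKrullDim_eq_deg_genericPoint pW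
        rw [hW] at this; exact_mod_cast this.symm
      have h2 : VarDim.deg pZ (genericPoint Z) = n := by
        have := VarDim.topologicalKrullDim_eq_deg_genericPoint pZ
        rw [hZ] at this; exact_mod_cast this.symm
      have h3 := VarDim.deg_eq_add (p := pZ) g pW rfl z
      rw [hgz, h1] at h3
      exact (VarDim.eq_of_specializes_of_deg_le pZ (genericPoint_specializes z) (by omega)).symm
    · haveI : LocallyQuasiFinite (g ∣_ U) := LocallyQuasiFinite.of_finite_preimage_singleton _ fun u => by
        have hu : u.1 ∈ {w : W | (g ⁻¹' {w}).Finite} := hU.le u.2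
        refine Set.Finite.subset (hu.preimage (g ⁻¹ᵁ U).ι.isOpenEmbedding.injective.injOn) fun z hz => ?_
        show g ((g ⁻¹ᵁ U).ι z) = u.1
        rw [← hz, ← Scheme.Hom.comp_apply, ← morphismRestrict_ι]
        rfl
      exact IsFinite.of_isProper_of_locallyQuasiFinite _

end Groth.Agent.H9FlatFin
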